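import Cfsg.Agent.H352.Sd.Tool
import Cfsg.Agent.BpSpor.MBigEleven
import Cfsg.Agent.MonsterP.Equiv
import Cfsg.Agent.KFacts.Baby.Inst
import Cfsg.Agent.KFacts.Baby.RowB
import Cfsg.Agent.Schreier.CoTwoStab
import Cfsg.Agent.S0399

/-!
# S4579: `Elem` for the Monster and the Baby Monster (helper352, task 3298)
-/

set_option autoImplicit false

namespace Cfsg.Agent.H352.Sd

open Cfsg Subgroup Cfsg.Agent.H643.Sd

section B

open Cfsg.Agent.BabyM Cfsg.Agent.BabyM.Model Cfsg.Agent.BabyU.ClosModel Cfsg.Agent.BabyU.ClosLane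
open Cfsg.Agent.KFacts.Baby.Inst

/-- **The Baby Monster**, from `Co2` -/
theorem elem_b (hCo2 : Elem Spor.Co2) {G : Type*} [Group G] [Finite G] (h : Cfsg.Spor.IsoB G) : Elem G := by
  obtain ⟨e⟩ := h
  obtain ⟨f⟩ := Cfsg.Agent.KFacts.Baby.RowB.exists_iso ⟨MulEquiv.refl Cfsg.Spor.BabyMonster⟩
  have := A.finite_G
  obtain ⟨k⟩ := Cfsg.Agent.Schreier.CoTwoStab.exists_equiv _ GroupInst.dt_l₀
  have hK : Nat.card GroupInst.K₀ = 42305421312000 := A.grp.card
  have : Finite GroupInst.K₀ := Nat.finite_of_card_ne_zero (by rw [hK]; norm_num)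
  have : Finite Spor.Co2 := Finite.of_equiv _ k.toEquiv
  obtain ⟨π, hπ, hker⟩ := quot A
  refine Elem.congr (f.trans e.symm) ?_
  refine elem_of_large (large A) π hπ hker ?_ (odd_index A) (Elem.congr k.symm hCo2)
  obtain ⟨n₀, h1, h2, -⟩ := gen A
  exact ⟨_, h1, fun h3 => (large A).z_ne (conj_eq_one_iff.1 h3), h2⟩

end B

section M

open Cfsg.Agent.BpSpor.MBigModel

/-- **The Monster**, from `Co1` -/
theorem elem_m (hCo1 : Elem Spor.Co1) {G : Type*} [Group G] [Finite G] (h : Cfsg.Spor.IsoM G) : Elem G := by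
  obtain ⟨e⟩ := h
  obtain ⟨f⟩ := MonsterP.Equiv.equiv
  have := BpSpor.MBigModel.finite
  have hcC : Nat.card Spor.Co1 = 4157776806543360000 := Cfsg.Agent.S0399.result.2
  have : Finite Spor.Co1 := Nat.finite_of_card_ne_zero (by rw [hcC]; norm_num)
  refine Elem.congr (e.trans f).symm ?_
  refine elem_of_large chart.large pi chart.pi_surj chart.pi_eq_one ?_ ?_ hCo1
  · by_contra hcon
    push Not at hcon
    classical
    have hm : zz ∈ centralizer ({zz} : Set MG) := mem_centralizer_singleton_iff.2 rfl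
    have hsub : ((pi.ker : Subgroup _) : Set (centralizer ({zz} : Set MG))) ⊆
        (({1, ⟨zz, hm⟩} : Finset (centralizer ({zz} : Set MG))) : Set _) := by
      intro c hc
      have hcQ := (chart.pi_eq_one c).1 hc
      simp only [Finset.coe_insert, Finset.coe_singleton, Set.mem_insert_iff, Set.mem_singleton_iff]
      by_cases h1 : (c : MG) = 1
      · exact Or.inl (Subtype.ext h1)
      · exact Or.inr (Subtype.ext (hcon _ hcQ h1))
    have h1 := Set.ncard_le_ncard hsub (Set.toFinite _)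
    rw [Set.ncard_coe_finset, ← Nat.card_coe_set_eq] at h1
    have h2 : Nat.card ↥(pi.ker) = 2 ^ 25 := by
      have h3 := pi.ker.card_mul_index
      rw [index_ker, MonoidHom.range_eq_top.2 chart.pi_surj, card_top, hcC, card_cent_z] at h3
      exact Nat.eq_of_mul_eq_mul_right (by norm_num) h3
    have h3 : ({1, ⟨zz, hm⟩} : Finset (centralizer ({zz} : Set MG))).card ≤ 2 := Finset.card_le_two
    have h4 : Nat.card ↥(pi.ker) = Nat.card ↑((pi.ker : Subgroup _) : Set (centralizer ({zz} : Set MG))) := rfl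
    omega
  · have h1 := (centralizer ({zz} : Set MG)).card_mul_index
    rw [card_cent_z, card_M] at h1
    rw [← Nat.not_even_iff_odd]
    rintro ⟨k, hk⟩
    rw [hk] at h1
    omega

end M

end Cfsg.Agent.H352.Sd
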