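import Cfsg.Agent.H643.Sd.Def
import Cfsg.Agent.Co2Type.Quad
import Mathlib

/-!
# S4579: `Elem` for extensions of large extraspecial 2-groups (helper352)

* `elem_of_odd_index`, `Elem.congr` : the basic tools;
* `elem_of_ker` : `π : C → K` surjective, the kernel an extraspecial 2-group with centre `⟨z⟩` (elementwise), `Elem K`,
  then `Elem C`;
* `elem_of_large` : `Large Q z` (`Co2Type.Quad.Large`), `π : C_G(z) → K` surjective with kernel `Q`, `|G : C_G(z)|` odd,
  `Elem K`, then `Elem G`.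
-/

set_option autoImplicit false

namespace Cfsg.Agent.H352.Sd

open Subgroup Cfsg.Agent.H643.Sd
open scoped commutatorElement

instance fact_two : Fact (Nat.Prime 2) := ⟨Nat.prime_two⟩

theorem Lin2.congr {P Q : Type*} [Group P] [Group Q] (e : P ≃* Q) (h : Lin2 P) : Lin2 Q := fun f x => by
  have h1 := h (f.comp e.toMonoidHom) (e.symm x)
  simpa using h1

/-- one Sylow subgroup suffices -/
theorem elem_of_sylow {G : Type*} [Group G] [Finite G] (P : Sylow 2 G) (h : Lin2 (P : Subgroup G)) : Elem G :=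
  fun Q => Lin2.congr (P.equiv Q) h

theorem Elem.congr {G H : Type*} [Group G] [Group H] [Finite H] (e : G ≃* H) (h : Elem G) : Elem H := by
  have : Finite G := Finite.of_equiv _ e.symm.toEquiv
  obtain ⟨P⟩ : Nonempty (Sylow 2 G) := inferInstance
  have hs : Function.Surjective e.toMonoidHom := e.surjective
  refine elem_of_sylow (P.mapSurjective hs) (Lin2.congr ?_ (h P))
  exact (P : Subgroup G).equivMapOfInjective e.toMonoidHom e.injective

/-- E0 -/
theorem elem_of_odd_index {G : Type*} [Group G] [Finite G] (H : Subgroup G) (ho : Odd H.index) (h : Elem H) :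
    Elem G := by
  obtain ⟨P⟩ : Nonempty (Sylow 2 H) := inferInstance
  have hT : ¬ 2 ∣ H.index := by
    rw [← even_iff_two_dvd]
    exact Nat.not_even_iff_odd.2 ho
  have hP : IsPGroup 2 ((P : Subgroup H).map H.subtype) := P.2.map _
  obtain ⟨Q, hQ⟩ := hP.exists_le_sylow
  have h1 : (P : Subgroup H).map H.subtype = Q := by
    refine Subgroup.eq_of_le_of_card_ge hQ (le_of_eq ?_)
    rw [Nat.card_congr ((P : Subgroup H).equivMapOfInjective H.subtype H.subtype_injective).toEquiv.symm]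
    have e1 := Q.card_eq_multiplicity
    have e2 := P.card_eq_multiplicity
    rw [e1, e2, ← H.card_mul_index, Nat.factorization_mul Nat.card_pos.ne' Subgroup.index_ne_zero_of_finite,
      Finsupp.add_apply, Nat.factorization_eq_zero_of_not_dvd hT, add_zero]
  refine elem_of_sylow Q (Lin2.congr ?_ (h P))
  exact ((P : Subgroup H).equivMapOfInjective H.subtype H.subtype_injective).trans (MulEquiv.subgroupCongr h1)

/-! ### the sign -/

open Classical in
/-- the sign of a commutator -/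
noncomputable def sg {Q : Type*} [Group Q] (y : Q) : ℂˣ := if y = 1 then 1 else -1

theorem sg_one {Q : Type*} [Group Q] : sg (1 : Q) = 1 := by simp [sg]

theorem sg_ne {Q : Type*} [Group Q] {y : Q} (h : y ≠ 1) : sg y = -1 := by simp [sg, h]

theorem sg_sq {Q : Type*} [Group Q] (y : Q) : sg y * sg y = 1 := by
  by_cases h : y = 1
  · rw [h, sg_one, one_mul]
  · rw [sg_ne h, neg_mul_neg, one_mul]

theorem sg_mul {Q : Type*} [Group Q] {z : Q} (hzz : z * z = 1) {a b : Q} (ha : a = 1 ∨ a = z) (hb : b = 1 ∨ b = z) :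
    sg (a * b) = sg a * sg b := by
  by_cases hz1 : z = 1
  · subst hz1
    have h1 : a = 1 := ha.elim id id
    have h2 : b = 1 := hb.elim id id
    rw [h1, h2, mul_one, sg_one, one_mul]
  · rcases ha with rfl | rfl <;> rcases hb with rfl | rfl
    · rw [mul_one, sg_one, one_mul]
    · rw [one_mul, sg_one, one_mul]
    · rw [mul_one, sg_one, mul_one]
    · rw [hzz, sg_one, sg_ne hz1, neg_mul_neg, one_mul]

theorem sg_inj {Q : Type*} [Group Q] {z : Q} {a b : Q} (ha : a = 1 ∨ a = z) (hb : b = 1 ∨ b = z)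
    (h : sg a = sg b) : a = b := by
  have hne : (-1 : ℂˣ) ≠ 1 := by
    intro h
    have h1 := congrArg (fun u : ℂˣ => (u : ℂ)) h
    norm_num at h1
  rcases ha with rfl | rfl <;> rcases hb with rfl | rfl
  · rfl
  · by_contra hcon
    rw [sg_one, sg_ne (fun h => hcon h.symm)] at h
    exact hne h.symm
  · by_contra hcon
    rw [sg_one, sg_ne hcon] at h
    exact hne h
  · rfl

theorem comm_mul_left {Q : Type*} [Group Q] {z : Q} (hzc : ∀ x : Q, z * x = x * z) (a b v : Q)
    (hb : ⁅b, v⁆ = 1 ∨ ⁅b, v⁆ = z) : ⁅a * b, v⁆ = ⁅b, v⁆ * ⁅a, v⁆ := by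
  have h1 : ⁅a * b, v⁆ = a * ⁅b, v⁆ * a⁻¹ * ⁅a, v⁆ := by simp only [commutatorElement_def]; group
  rw [h1]
  rcases hb with h | h
  · rw [h, mul_one, mul_inv_cancel, one_mul]
  · rw [h, ← hzc a, mul_inv_cancel_right]

theorem comm_mul_right {Q : Type*} [Group Q] {z : Q} (hzc : ∀ x : Q, z * x = x * z) (a v w : Q)
    (hb : ⁅a, w⁆ = 1 ∨ ⁅a, w⁆ = z) : ⁅a, v * w⁆ = ⁅a, v⁆ * ⁅a, w⁆ := by
  have h1 : ⁅a, v * w⁆ = ⁅a, v⁆ * (v * ⁅a, w⁆ * v⁻¹) := by simp only [commutatorElement_def]; group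
  rw [h1]
  rcases hb with h | h
  · rw [h, mul_one, mul_inv_cancel]
  · rw [h, ← hzc v, mul_inv_cancel_right]

/-- a linear character of an extraspecial 2-group is the commutator with an element -/
theorem exists_v {Q : Type*} [Group Q] [Finite Q] {z : Q} (hzz : z * z = 1)
    (hcomm : ∀ x y : Q, ⁅x, y⁆ = 1 ∨ ⁅x, y⁆ = z) (hzc : ∀ x : Q, z * x = x * z)
    (hcent : ∀ x : Q, (∀ y, x * y = y * x) → x = 1 ∨ x = z) (f : Q →* ℂˣ) (hfz : f z = 1) :
    ∃ v : Q, ∀ e : Q, f e = sg ⁅e, v⁆ := by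
  classical
  have := Fintype.ofFinite Q
  by_contra hcon
  push Not at hcon
  -- the homomorphisms in both variables
  let c : Q → Q →* ℂˣ := fun v => MonoidHom.mk' (fun e => sg ⁅e, v⁆) fun a b => by
    rw [comm_mul_left hzc a b v (hcomm b v), sg_mul hzz (hcomm b v) (hcomm a v), mul_comm]
  let c' : Q → Q →* ℂˣ := fun e => MonoidHom.mk' (fun v => sg ⁅e, v⁆) fun a b => by
    rw [comm_mul_right hzc e a b (hcomm e b), sg_mul hzz (hcomm e a) (hcomm e b)]
  have hc : ∀ v e, c v e = sg ⁅e, v⁆ := fun v e => rfl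
  have hc' : ∀ v e, c' e v = sg ⁅e, v⁆ := fun v e => rfl
  -- first order of summation
  have h1 : ∀ v : Q, ∑ e : Q, ((f e : ℂˣ) : ℂ) * ((sg ⁅e, v⁆ : ℂˣ) : ℂ) = 0 := by
    intro v
    have h2 := sum_hom_units_eq_zero ((Units.coeHom ℂ).comp (f * c v)) (by
      intro h
      obtain ⟨e, he⟩ := hcon v
      apply he
      have h3 : ((f * c v) e : ℂˣ) = 1 := Units.ext (DFunLike.congr_fun h e)
      rw [MonoidHom.mul_apply, hc] at h3
      rw [← mul_one (f e), ← sg_sq ⁅e, v⁆, ← mul_assoc, h3, one_mul])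
    rw [← h2]
    refine Finset.sum_congr rfl fun e _ => ?_
    rw [MonoidHom.comp_apply, MonoidHom.mul_apply, hc, Units.coeHom_apply, Units.val_mul]
  -- second order of summation
  have h3 : ∀ e : Q, ∑ v : Q, ((sg ⁅e, v⁆ : ℂˣ) : ℂ) = if e = 1 ∨ e = z then (Fintype.card Q : ℂ) else 0 := by
    intro e
    split_ifs with he
    · have h4 : ∀ v : Q, ⁅e, v⁆ = 1 := by
        intro v
        rw [commutatorElement_eq_one_iff_mul_comm]
        rcases he with rfl | rfl
        · rw [one_mul, mul_one]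
        · exact hzc v
      simp only [h4, sg_one, Units.val_one, Finset.sum_const, Finset.card_univ, nsmul_eq_mul, mul_one]
    · have h2 := sum_hom_units_eq_zero ((Units.coeHom ℂ).comp (c' e)) (by
        intro h
        apply he
        apply hcent
        intro v
        have h3 : (c' e v : ℂˣ) = 1 := Units.ext (DFunLike.congr_fun h v)
        rw [hc', ← sg_one (Q := Q)] at h3
        have h5 := sg_inj (hcomm e v) (Or.inl rfl) h3
        exact commutatorElement_eq_one_iff_mul_comm.1 h5)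
      rw [← h2]
      rfl
  have h4 : ∑ e : Q, ((f e : ℂˣ) : ℂ) * (if e = 1 ∨ e = z then (Fintype.card Q : ℂ) else 0) = 0 := by
    have h5 : ∑ v : Q, ∑ e : Q, ((f e : ℂˣ) : ℂ) * ((sg ⁅e, v⁆ : ℂˣ) : ℂ) = 0 :=
      Finset.sum_eq_zero fun v _ => h1 v
    rw [Finset.sum_comm] at h5
    refine Eq.trans (Finset.sum_congr rfl fun e _ => ?_) h5
    rw [← Finset.mul_sum, h3]
  have h6 : ∑ e : Q, ((f e : ℂˣ) : ℂ) * (if e = 1 ∨ e = z then (Fintype.card Q : ℂ) else 0) =
      ∑ e ∈ Finset.univ.filter (fun e : Q => e = 1 ∨ e = z), (Fintype.card Q : ℂ) := by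
    rw [Finset.sum_filter]
    refine Finset.sum_congr rfl fun e _ => ?_
    split_ifs with he
    · rcases he with rfl | rfl
      · rw [map_one, Units.val_one, one_mul]
      · rw [hfz, Units.val_one, one_mul]
    · rw [mul_zero]
  rw [h6, Finset.sum_const, nsmul_eq_mul] at h4
  rcases mul_eq_zero.1 h4 with h | h
  · have h7 : (Finset.univ.filter (fun e : Q => e = 1 ∨ e = z)).card = 0 := by exact_mod_cast h
    rw [Finset.card_eq_zero] at h7
    have h8 : (1 : Q) ∈ Finset.univ.filter (fun e : Q => e = 1 ∨ e = z) := by simp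
    rw [h7] at h8
    simp at h8
  · have h7 : Fintype.card Q = 0 := by exact_mod_cast h
    exact Fintype.card_ne_zero h7

/-! ### the extension -/

/-- E3, elementwise -/
theorem elem_of_ker {C K : Type*} [Group C] [Finite C] [Group K] (π : C →* K) (hπ : Function.Surjective π) {z : C}
    (hz1 : z ≠ 1) (hz : π z = 1) (hzc : ∀ g : C, z * g = g * z)
    (hsq : ∀ x, π x = 1 → x * x = 1 ∨ x * x = z)
    (hcomm : ∀ x y, π x = 1 → π y = 1 → x * y = y * x ∨ x * y = y * x * z)
    (hcent : ∀ x, π x = 1 → (∀ y, π y = 1 → x * y = y * x) → x = 1 ∨ x = z)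
    (hne : ∃ x, π x = 1 ∧ x ≠ 1 ∧ x ≠ z) (hK : Elem K) : Elem C := by
  classical
  have hzz : z * z = 1 := by
    rcases hsq z hz with h | h
    · exact h
    · exact absurd (by simpa using h) hz1
  have hfK : Finite K := Finite.of_surjective _ hπ
  intro P f x
  -- the kernel is in `P`
  have hQ : IsPGroup 2 π.ker := by
    rintro ⟨q, hq⟩
    refine ⟨2, Subtype.ext ?_⟩
    show q ^ 2 ^ 2 = 1
    have h1 : q ^ 2 ^ 2 = q * q * (q * q) := by
      rw [show 2 ^ 2 = 2 * 2 from rfl, pow_mul, pow_two, pow_two]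
    rw [h1]
    rcases hsq q hq with h | h
    · rw [h, one_mul]
    · rw [h, hzz]
  have hQP : π.ker ≤ (P : Subgroup C) := by
    have h1 : IsPGroup 2 (π.ker ⊔ (P : Subgroup C) : Subgroup C) := hQ.to_sup_of_normal_left P.2
    have h2 := P.3 h1 le_sup_right
    rw [← h2]
    exact le_sup_left
  have hcomm' : ∀ x y, π x = 1 → π y = 1 → ⁅x, y⁆ = 1 ∨ ⁅x, y⁆ = z := by
    intro x y hx hy
    rcases hcomm x y hx hy with h | h
    · exact Or.inl (commutatorElement_eq_one_iff_mul_comm.2 h)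
    · right
      have h1 : x * y = z * (y * x) := by rw [h, hzc]
      rw [commutatorElement_def]
      have h2 : x * y * x⁻¹ * y⁻¹ = (x * y) * (y * x)⁻¹ := by group
      rw [h2, h1, mul_inv_cancel_right]
  -- `f z = 1`
  have hzP : z ∈ (P : Subgroup C) := hQP hz
  have hfz : f ⟨z, hzP⟩ = 1 := by
    obtain ⟨a, ha, ha1, haz⟩ := hne
    have h1 : ∃ b, π b = 1 ∧ a * b ≠ b * a := by
      by_contra hcon
      push Not at hcon
      rcases hcent a ha hcon with h | h
      · exact ha1 h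
      · exact haz h
    obtain ⟨b, hb, hab⟩ := h1
    have h2 : ⁅a, b⁆ = z := by
      rcases hcomm' a b ha hb with h | h
      · exact absurd (commutatorElement_eq_one_iff_mul_comm.1 h) hab
      · exact h
    have h3 : (⟨z, hzP⟩ : (P : Subgroup C)) = ⁅(⟨a, hQP ha⟩ : (P : Subgroup C)), ⟨b, hQP hb⟩⁆ :=
      Subtype.ext h2.symm
    rw [h3, map_commutatorElement]
    exact commutatorElement_eq_one_iff_mul_comm.2 (mul_comm _ _)
  -- `v`
  obtain ⟨v, hv⟩ := exists_v (Q := π.ker) (z := ⟨z, hz⟩) (Subtype.ext hzz)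
    (fun x y => (hcomm' x y x.2 y.2).imp (fun h => Subtype.ext h) (fun h => Subtype.ext h))
    (fun x => Subtype.ext (hzc x))
    (fun x hx => (hcent x x.2 fun y hy => congrArg Subtype.val (hx ⟨y, hy⟩)).imp (fun h => Subtype.ext h)
      (fun h => Subtype.ext h))
    (f.comp (inclusion hQP)) hfz
  have hv' : ∀ e (he : π e = 1), f ⟨e, hQP he⟩ = sg ⁅e, (v : C)⁆ := by
    intro e he
    have h1 := hv ⟨e, he⟩
    have h2 : sg ⁅(⟨e, he⟩ : π.ker), v⁆ = sg ⁅e, (v : C)⁆ := by
      by_cases h : ⁅e, (v : C)⁆ = 1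
      · have h3 : ⁅(⟨e, he⟩ : π.ker), v⁆ = 1 := Subtype.ext h
        rw [h, h3, sg_one, sg_one]
      · have h3 : ⁅(⟨e, he⟩ : π.ker), v⁆ ≠ 1 := fun h3 => h (congrArg Subtype.val h3)
        rw [sg_ne h, sg_ne h3]
    rw [← h2]
    exact h1
  have hvπ : π (v : C) = 1 := v.2
  -- `[g, v] ∈ {1, z}` for `g ∈ P`
  have hgv : ∀ g ∈ (P : Subgroup C), ⁅g, (v : C)⁆ = 1 ∨ ⁅g, (v : C)⁆ = z := by
    intro g hg
    have hker : π (g * v * g⁻¹) = 1 := by rw [map_mul, map_mul, hvπ, mul_one, ← map_mul, mul_inv_cancel, map_one]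
    have hkey : ∀ e, π e = 1 → ⁅e, g * v * g⁻¹⁆ = ⁅e, (v : C)⁆ := by
      intro e he
      have he' : π (g⁻¹ * e * g) = 1 := by rw [map_mul, map_mul, he, mul_one, ← map_mul, inv_mul_cancel, map_one]
      have h1 : f ⟨g⁻¹ * e * g, hQP he'⟩ = f ⟨e, hQP he⟩ := by
        have h2 : (⟨g⁻¹ * e * g, hQP he'⟩ : (P : Subgroup C)) = ⟨g, hg⟩⁻¹ * ⟨e, hQP he⟩ * ⟨g, hg⟩ := rfl
        rw [h2, map_mul, map_mul, map_inv, mul_comm _ (f ⟨e, hQP he⟩), inv_mul_cancel_right]
      rw [hv' _ he', hv' e he] at h1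
      have h3 := sg_inj (hcomm' _ _ he' hvπ) (hcomm' _ _ he hvπ) h1
      have h4 : ⁅e, g * v * g⁻¹⁆ = g * ⁅g⁻¹ * e * g, (v : C)⁆ * g⁻¹ := by
        simp only [commutatorElement_def]; group
      rw [h4, h3]
      rcases hcomm' e v he hvπ with h | h
      · rw [h]; group
      · rw [h, ← hzc g, mul_inv_cancel_right]
    have h5 : ⁅g, (v : C)⁆ = g * v * g⁻¹ * (v : C)⁻¹ := rfl
    rw [h5]
    apply hcent
    · rw [map_mul, hker, map_inv, hvπ, inv_one, mul_one]
    · intro e he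
      have h6 := hkey e he
      rw [commutatorElement_def, commutatorElement_def] at h6
      -- `e v' e⁻¹ = c v'`, `e v e⁻¹ = c v`
      obtain ⟨c, hc⟩ : ∃ c, e * (v : C) * e⁻¹ * (v : C)⁻¹ = c := ⟨_, rfl⟩
      rw [hc] at h6
      have hcc : ∀ g : C, c * g = g * c := by
        intro g
        have : c = 1 ∨ c = z := by rw [← hc]; exact hcomm' e v he hvπ
        rcases this with rfl | rfl
        · rw [one_mul, mul_one]
        · exact hzc g
      have h7 : e * (v : C) * e⁻¹ = c * v := by rw [← hc]; group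
      have h8 : e * (g * v * g⁻¹) * e⁻¹ = c * (g * v * g⁻¹) := by rw [← h6]; group
      have h9 : e * (g * v * g⁻¹ * (v : C)⁻¹) * e⁻¹ = g * v * g⁻¹ * (v : C)⁻¹ := by
        have h10 : e * (g * v * g⁻¹ * (v : C)⁻¹) * e⁻¹ = (e * (g * v * g⁻¹) * e⁻¹) * (e * v * e⁻¹)⁻¹ := by group
        rw [h10, h7, h8, mul_inv_rev]
        calc c * (g * v * g⁻¹) * ((v : C)⁻¹ * c⁻¹) = c * (g * v * g⁻¹ * (v : C)⁻¹) * c⁻¹ := by group
          _ = g * v * g⁻¹ * (v : C)⁻¹ := by rw [hcc, mul_inv_cancel_right]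
      have h11 : e * (g * v * g⁻¹ * (v : C)⁻¹) = (g * v * g⁻¹ * (v : C)⁻¹) * e := by
        have h12 := congrArg (fun a => a * e) h9
        simpa using h12
      exact h11.symm
  -- the character `h`
  let h : (P : Subgroup C) →* ℂˣ := MonoidHom.mk' (fun g => sg ⁅(g : C), (v : C)⁆) fun a b => by
    show sg ⁅(a : C) * b, (v : C)⁆ = _
    rw [comm_mul_left hzc (a : C) b v (hgv b b.2), sg_mul hzz (hgv b b.2) (hgv a a.2), mul_comm]
  have hh : ∀ g, h g = sg ⁅(g : C), (v : C)⁆ := fun g => rfl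
  have hfh : ∀ g : (P : Subgroup C), π g = 1 → (f * h) g = 1 := by
    intro g hg
    rw [MonoidHom.mul_apply, hh]
    have h1 := hv' g hg
    have h2 : (⟨(g : C), hQP hg⟩ : (P : Subgroup C)) = g := rfl
    rw [h2] at h1
    rw [h1, sg_sq]
  -- the quotient
  let φ : (P : Subgroup C) →* ((P.mapSurjective hπ : Sylow 2 K) : Subgroup K) := π.subgroupMap (P : Subgroup C)
  have hφ : Function.Surjective φ := π.subgroupMap_surjective (P : Subgroup C)
  have hle : φ.ker ≤ (f * h).ker := by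
    intro g hg
    rw [MonoidHom.mem_ker] at hg ⊢
    exact hfh g (congrArg Subtype.val hg)
  let k := φ.liftOfSurjective hφ ⟨f * h, hle⟩
  have hk : ∀ g, k (φ g) = (f * h) g := fun g =>
    φ.liftOfRightInverse_comp_apply _ (Function.rightInverse_surjInv hφ) ⟨f * h, hle⟩ g
  have h1 := hK (P.mapSurjective hπ) k (φ x)
  rw [hk, MonoidHom.mul_apply, mul_pow, hh, pow_two (sg _), sg_sq, mul_one] at h1
  exact h1

/-- E3 for the centralizer of a 2-central involution of type `Large` -/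
theorem elem_of_large {G K : Type*} [Group G] [Finite G] [Group K] {Q : Subgroup G} {z : G}
    (hL : Cfsg.Agent.Co2Type.Quad.Large Q z) (π : centralizer ({z} : Set G) →* K) (hπ : Function.Surjective π)
    (hker : ∀ c, π c = 1 ↔ (c : G) ∈ Q) (hne : ∃ x ∈ Q, x ≠ 1 ∧ x ≠ z)
    (hi : Odd (centralizer ({z} : Set G)).index) (hK : Elem K) : Elem G := by
  refine elem_of_odd_index _ hi ?_
  have hm : ∀ x ∈ Q, x ∈ centralizer ({z} : Set G) := fun x hx => mem_centralizer_singleton_iff.2 (hL.comm_z x hx)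
  refine elem_of_ker π hπ (z := ⟨z, hm z hL.z_mem⟩) (fun h => hL.z_ne (congrArg Subtype.val h))
    ((hker _).2 hL.z_mem) (fun g => Subtype.ext (mem_centralizer_singleton_iff.1 g.2).symm) ?_ ?_ ?_ ?_ hK
  · intro x hx
    exact (hL.sq x ((hker x).1 hx)).imp (fun h => Subtype.ext h) (fun h => Subtype.ext h)
  · intro x y hx hy
    exact (hL.comm x ((hker x).1 hx) y ((hker y).1 hy)).imp (fun h => Subtype.ext h) (fun h => Subtype.ext h)
  · intro x hx hc
    refine (hL.cent x ((hker x).1 hx) fun y hy => ?_).imp (fun h => Subtype.ext h) (fun h => Subtype.ext h)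
    exact congrArg Subtype.val (hc ⟨y, hm y hy⟩ ((hker _).2 hy))
  · obtain ⟨x, hx, h1, h2⟩ := hne
    exact ⟨⟨x, hm x hx⟩, (hker _).2 hx, fun h => h1 (congrArg Subtype.val h), fun h => h2 (congrArg Subtype.val h)⟩

end Cfsg.Agent.H352.Sd
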